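import Groth.Prelude.Def_Pi1
import Groth.Agent.H18Et.FEtNormal
import Groth.Agent.H7Lim.Birational
import Mathlib

/-!
# Normal Noetherian schemes with domain global sections

* `isIntegral_of_normal`: a Noetherian scheme with normal local rings whose ring of global sections is a domain
  is integral.
* `isIntegrallyClosed_top`: the ring of global sections of a normal integral scheme is integrally closed.
-/

set_option autoImplicit false

universe u

open CategoryTheory AlgebraicGeometry TopologicalSpace Opposite

namespace Groth.Agent.H25Norm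

/-- A fraction integral over a domain lands in any integrally closed overdomain. -/
theorem exists_mul_eq {A B : Type u} [CommRing A] [IsDomain A] [CommRing B] [IsDomain B] [IsIntegrallyClosed B]
    (K L : Type u) [Field K] [Algebra A K] [IsFractionRing A K] [Field L] [Algebra B L] [IsFractionRing B L]
    (φ : A →+* B) (hφ : Function.Injective φ) (a b : A) (hb : b ≠ 0)
    (hx : IsIntegral A (algebraMap A K a / algebraMap A K b)) :
    ∃ c, c * φ b = φ a := by
  let ψ : K →+* L := IsLocalization.map L φ
    (nonZeroDivisors_le_comap_nonZeroDivisors_of_injective φ hφ)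
  have hψ := hx.map_of_comp_eq φ ψ (RingHom.ext fun z => (IsLocalization.map_eq (S := K) (Q := L) (nonZeroDivisors_le_comap_nonZeroDivisors_of_injective φ hφ) z).symm)
  obtain ⟨c, hc⟩ := IsIntegrallyClosed.algebraMap_eq_of_integral hψ
  refine ⟨c, IsFractionRing.injective B L ?_⟩
  have hne : algebraMap B L (φ b) ≠ 0 := by
    rw [map_ne_zero_iff _ (IsFractionRing.injective _ _), map_ne_zero_iff _ hφ]
    exact hb
  rw [map_mul, hc, map_div₀, IsLocalization.map_eq, IsLocalization.map_eq, div_mul_cancel₀ _ hne]

/-- A scheme with domain global sections has no nontrivial clopen subsets. -/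
theorem eq_univ_of_isClopen {T : Scheme.{u}} [IsDomain Γ(T, ⊤)] {C : Set T} (hC : IsClopen C) (hne : C.Nonempty) :
    C = Set.univ := by
  by_contra hC'
  obtain ⟨y, hy⟩ := (Set.ne_univ_iff_exists_notMem C).1 hC'
  obtain ⟨x, hx⟩ := hne
  let W : Bool → T.Opens := fun b => bif b then ⟨C, hC.2⟩ else ⟨Cᶜ, hC.1.isOpen_compl⟩
  let s : ∀ b, Γ(T, W b) := fun b => bif b then 1 else 0
  have hemp : ∀ b b', b ≠ b' → W b ⊓ W b' = ⊥ := by
    intro b b' h
    refine Opens.ext ?_
    cases b <;> cases b' <;> first | exact absurd rfl h | simp [W]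
  obtain ⟨e, he⟩ : ∃ e : Γ(T, ⊤), ∀ b, T.presheaf.map (homOfLE (le_top : W b ≤ ⊤)).op e = s b := by
    obtain ⟨e, he, -⟩ := T.sheaf.existsUnique_gluing' W ⊤ (fun b => homOfLE le_top) (fun z _ => by
      rw [Opens.mem_iSup]
      by_cases hz : z ∈ C
      · exact ⟨true, hz⟩
      · exact ⟨false, hz⟩) s (by
      intro b b'
      by_cases h : b = b'
      · subst h; rfl
      · haveI : Subsingleton Γ(T, W b ⊓ W b') := by rw [hemp b b' h]; infer_instance
        exact @Subsingleton.elim Γ(T, W b ⊓ W b') _ _ _)
    exact ⟨e, he⟩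
  have hgy : T.presheaf.germ ⊤ y trivial e = 0 := by
    have := congrArg (T.presheaf.germ (W false) y hy) (he false)
    exact ((TopCat.Presheaf.germ_res_apply T.presheaf _ y hy e).symm.trans this).trans (map_zero _)
  have hgx : T.presheaf.germ ⊤ x trivial e = 1 := by
    have := congrArg (T.presheaf.germ (W true) x hx) (he true)
    exact ((TopCat.Presheaf.germ_res_apply T.presheaf _ x hx e).symm.trans this).trans (map_one _)
  have hidem : e * (e - 1) = 0 := by
    apply T.sheaf.eq_of_locally_eq' W ⊤ (fun b => homOfLE le_top) (fun z _ => by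
      rw [Opens.mem_iSup]
      by_cases hz : z ∈ C
      · exact ⟨true, hz⟩
      · exact ⟨false, hz⟩)
    intro b
    change T.presheaf.map (homOfLE le_top).op (e * (e - 1)) = T.presheaf.map (homOfLE le_top).op 0
    rw [map_mul, map_sub, map_one, map_zero]
    have hb : T.presheaf.map (homOfLE le_top).op e = s b := he b
    rw [hb]
    cases b <;> simp [s]
  rcases mul_eq_zero.1 hidem with h | h
  · rw [h, map_zero] at hgx; exact zero_ne_one hgx
  · rw [sub_eq_zero.1 h, map_one] at hgy; exact one_ne_zero hgy

/-- A Noetherian scheme with domain stalks and domain global sections is integral. -/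
theorem isIntegral_of_normal (T : Scheme.{u}) [IsNoetherian T] (hd : ∀ t : T, IsDomain (T.presheaf.stalk t))
    [IsDomain Γ(T, ⊤)] : IsIntegral T := by
  have : ∀ t : T, _root_.IsReduced (T.presheaf.stalk t) := fun t => by have := hd t; infer_instance
  have : AlgebraicGeometry.IsReduced T := isReduced_of_isReduced_stalk _
  choose w hw hwmax using fun t : T => @Groth.Agent.H18Et.FEtNormal.exists_maximal_generalization _ t (hd t)
  have hwgen : ∀ t, closure {w t} ∈ irreducibleComponents T := by
    intro t
    refine ⟨isIrreducible_singleton.closure, fun Z hZ hle => ?_⟩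
    obtain ⟨z, hz⟩ := QuasiSober.sober hZ.closure isClosed_closure
    have hzw : z ⤳ w t :=
      hz.specializes (subset_closure (hle (subset_closure (Set.mem_singleton _))))
    have hwz : w t ⤳ z := hwmax t z (hzw.trans (hw t))
    exact subset_closure.trans (hz.def.ge.trans (closure_minimal
      (Set.singleton_subset_iff.2 hwz.mem_closure) isClosed_closure))
  have huniq : ∀ y z, w z ⤳ y → w z = w y := fun y z h =>
    (((hwmax z (w y) ((hwmax y (w z) h).trans (hw z)))).antisymm (hwmax y (w z) h)).eq
  have hfin : (Set.range w).Finite :=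
    Set.Finite.of_finite_image (f := fun z : T => closure ({z} : Set T))
      (NoetherianSpace.finite_irreducibleComponents.subset (by rintro _ ⟨_, ⟨t, rfl⟩, rfl⟩; exact hwgen t))
      (fun a _ b _ h => (isGenericPoint_def.2 (h : closure {a} = closure {b})).eq isGenericPoint_closure)
  obtain ⟨y₀⟩ : Nonempty T := by
    by_contra h
    rw [not_nonempty_iff] at h
    have : Subsingleton Γ(T, ⊤) := by
      rw [show (⊤ : T.Opens) = ⊥ from Opens.ext (Set.eq_empty_of_isEmpty _)]; infer_instance
    exact false_of_nontrivial_of_subsingleton Γ(T, ⊤)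
  have hC : IsClopen (closure {w y₀}) := by
    refine ⟨isClosed_closure, ?_⟩
    have : (closure {w y₀})ᶜ = ⋃ g ∈ Set.range w \ {w y₀}, closure {g} := by
      ext z
      simp only [Set.mem_compl_iff, Set.mem_iUnion, exists_prop]
      constructor
      · intro hz
        refine ⟨w z, ⟨⟨z, rfl⟩, fun h => hz ?_⟩, specializes_iff_mem_closure.mp (hw z)⟩
        exact specializes_iff_mem_closure.mp ((Set.mem_singleton_iff.mp h) ▸ hw z)
      · rintro ⟨_, ⟨⟨v, rfl⟩, hne⟩, hzu⟩ hzC
        exact hne ((huniq z v (specializes_iff_mem_closure.mpr hzu)).trans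
          (huniq z y₀ (specializes_iff_mem_closure.mpr hzC)).symm)
    rw [← isClosed_compl_iff, this]
    exact (hfin.sdiff).isClosed_biUnion fun _ _ => isClosed_closure
  have hu := eq_univ_of_isClopen hC ⟨_, subset_closure rfl⟩
  haveI : IrreducibleSpace T := by
    rw [irreducibleSpace_def, Set.top_eq_univ, ← hu]
    exact isIrreducible_singleton.closure
  exact isIntegral_of_irreducibleSpace_of_isReduced T

/-- Global sections of a normal integral scheme form an integrally closed domain. -/
theorem isIntegrallyClosed_top (T : Scheme.{u}) [IsIntegral T]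
    (hN : ∀ t : T, IsIntegrallyClosed (T.presheaf.stalk t)) : IsIntegrallyClosed Γ(T, ⊤) := by
  refine (isIntegrallyClosed_iff (FractionRing Γ(T, ⊤))).2 fun {x} hx => ?_
  obtain ⟨a, b, hb, rfl⟩ := IsFractionRing.div_surjective (A := Γ(T, ⊤)) x
  choose W hW hWt _hWle using fun t : T => TopologicalSpace.Opens.isBasis_iff_nbhd.mp T.isBasis_affineOpens
    (U := ⊤) (x := t) trivial
  have hres : ∀ V : T.Opens, (V : Set T).Nonempty →
      Function.Injective (T.presheaf.map (homOfLE (le_top : V ≤ ⊤)).op) :=
    fun V ⟨v, hv⟩ => (germ_injective_of_isIntegral T v hv).of_comp_iff _ |>.1 fun p q h => by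
      refine germ_injective_of_isIntegral T (U := ⊤) v trivial ?_
      simpa only [Function.comp_apply, TopCat.Presheaf.germ_res_apply] using h
  have hloc : ∀ t, ∃ c : Γ(T, W t), c * T.presheaf.map (homOfLE le_top).op b =
      T.presheaf.map (homOfLE le_top).op a := by
    intro t
    haveI : Nonempty (W t) := ⟨⟨t, hWt t⟩⟩
    haveI : IsIntegrallyClosed Γ(T, W t) := H7Lim.isIntegrallyClosed_section hN (hW t)
    exact exists_mul_eq (FractionRing Γ(T, ⊤)) (FractionRing Γ(T, W t)) (T.presheaf.map (homOfLE le_top).op).hom (hres _ ⟨t, hWt t⟩) a b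
      (nonZeroDivisors.ne_zero hb) hx
  choose c hc using hloc
  obtain ⟨g, hg⟩ : ∃ g : Γ(T, ⊤), ∀ t, T.presheaf.map (homOfLE (le_top : W t ≤ ⊤)).op g = c t := by
    obtain ⟨g, hg, -⟩ := T.sheaf.existsUnique_gluing' W ⊤ (fun t => homOfLE le_top) (fun t _ => by
      rw [Opens.mem_iSup]; exact ⟨t, hWt t⟩) c (by
    intro t t'
    rcases Set.eq_empty_or_nonempty ((W t ⊓ W t' : T.Opens) : Set T) with he | hne
    · haveI : Subsingleton Γ(T, W t ⊓ W t') := by
        rw [show W t ⊓ W t' = ⊥ from Opens.ext he]; infer_instance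
      exact @Subsingleton.elim Γ(T, W t ⊓ W t') _ _ _
    · haveI : Nonempty (W t ⊓ W t' : T.Opens) := ⟨⟨hne.some, hne.some_mem⟩⟩
      refine mul_right_cancel₀ (b := T.presheaf.map (homOfLE (le_top : W t ⊓ W t' ≤ ⊤)).op b)
        ((map_ne_zero_iff _ (hres _ hne)).2 (nonZeroDivisors.ne_zero hb)) ?_
      have h1 := congrArg (T.presheaf.map (Opens.infLELeft (W t) (W t')).op) (hc t)
      have h2 := congrArg (T.presheaf.map (Opens.infLERight (W t) (W t')).op) (hc t')
      rw [map_mul, ← CommRingCat.comp_apply, ← CommRingCat.comp_apply, ← Functor.map_comp] at h1 h2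
      exact h1.trans h2.symm)
    exact ⟨g, hg⟩
  refine ⟨g, ?_⟩
  have hgb : g * b = a := T.sheaf.eq_of_locally_eq' W ⊤ (fun t => homOfLE le_top)
    (fun t _ => by rw [Opens.mem_iSup]; exact ⟨t, hWt t⟩) _ _ fun t => by
    change T.presheaf.map (homOfLE le_top).op (g * b) = _
    rw [map_mul]
    exact (congrArg (· * _) (hg t)).trans (hc t)
  rw [eq_div_iff ((map_ne_zero_iff _ (IsFractionRing.injective _ _)).2 (nonZeroDivisors.ne_zero hb)),
    ← map_mul, hgb]

end Groth.Agent.H25Norm
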